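import Groth.Agent.Lib.RegPow10.Powers
import Groth.Agent.Lib.CMReg.StructureMain
import Groth.Agent.Lib.CurveMult.GGCurve
import Groth.Agent.Lib.FormalExist7.PushTwist
import Groth.Agent.Lib.Regularity10.Linear
import Groth.Agent.Lib.CMReg.Complex
import Groth.Agent.Lib.Euler.CurveVanish

/-!
# Regularity of powers of an ideal sheaf grows at most linearly
-/

universe u

set_option backward.isDefEq.respectTransparency false
set_option linter.all false

open AlgebraicGeometry CategoryTheory CategoryTheory.Limits TopologicalSpace Opposite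
open GrothLib.InvExt (mres)

noncomputable section

namespace GrothLib.RegPow

open GrothLib.CMReg

variable {n : ℕ} {k : Type u} [Field k]

/-- The ideal module is coherent. -/
theorem isCoh_idealMod {X : Scheme.{u}} [IsLocallyNoetherian X] (I : X.IdealSheafData) :
    Coh.IsCoh (ClSub.idealMod I) :=
  QCoh.isCoh_kernel (ClSub.toSubscheme I) (Euler.isCoh_of_isInvertible Euler.isInvertible_structure)
    (FormalExist7.isCoh_pushforward I.subschemeι (Euler.isCoh_of_isInvertible Euler.isInvertible_structure))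

/-- `O(-1)` has no sections on a projective space of positive dimension. -/
theorem subsingleton_H0_twist_neg_one (n : ℕ) :
    Subsingleton (Coh.HH (CohB1.ProjSpace (n + 1) k) (Twist.twistProjSpace (n + 1) k (-1)) 0) := by
  obtain ⟨j, hjc, ι, w, hS, hj, -⟩ := exists_hyperplane n k
  haveI := hS.mono_f
  haveI : Mono ι := hS.mono_f
  refine subsingleton_of_forall_eq 0 fun x => NegTwist.injective_hhMap_zero k ι ?_
  rw [map_zero]
  refine (ProjCoh.H0top _).injective ?_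
  rw [map_zero]
  obtain ⟨c, hc⟩ := exists_eq_const
    (show Γ(CohB1.ProjSpace (n + 1) k, ⊤) from ProjCoh.H0top _ (Cohom.hhMap k ι 0 x))
  have h0 : (ClSub.unitToPush j).app ⊤ (ProjCoh.H0top _ (Cohom.hhMap k ι 0 x)) = 0 := by
    rw [NegTwist.H0top_hhMap]
    exact congrArg (fun φ => φ.app ⊤ (ProjCoh.H0top _ x)) w
  have h1 : (CohB1.ProjSpace.toSpec n k).appTop c = 0 := by
    rw [← hj, Scheme.Hom.comp_appTop, ConcreteCategory.comp_apply, ← hc]
    exact h0
  haveI : IsIntegral (CohB1.ProjSpace n k) := ProjDim.isIntegral_proj k n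
  haveI : Nontrivial Γ(CohB1.ProjSpace n k, ⊤) := inferInstance
  have hc0 : c = 0 := by
    have h2 : (CohB1.ProjSpace.toSpec n k).appTop ((Scheme.ΓSpecIso (CommRingCat.of k)).inv
        ((Scheme.ΓSpecIso (CommRingCat.of k)).hom c)) = 0 := by
      rw [← ConcreteCategory.comp_apply (Scheme.ΓSpecIso (CommRingCat.of k)).hom, Iso.hom_inv_id]
      exact h1
    let φ : k →+* Γ(CohB1.ProjSpace n k, ⊤) :=
      ((Scheme.ΓSpecIso (CommRingCat.of k)).inv ≫ (CohB1.ProjSpace.toSpec n k).appTop).hom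
    have h3 : (Scheme.ΓSpecIso (CommRingCat.of k)).hom c = (0 : k) :=
      φ.injective (h2.trans (map_zero φ).symm)
    have h4 := congrArg (Scheme.ΓSpecIso (CommRingCat.of k)).inv h3
    rw [← ConcreteCategory.comp_apply, Iso.hom_inv_id, map_zero] at h4
    exact h4
  refine hc.trans ?_
  rw [hc0, map_zero]

/-- `O(-1)`, `O(-2)`, ... have no sections. -/
theorem subsingleton_H0_twist_neg (n : ℕ) : ∀ t : ℕ,
    Subsingleton (Coh.HH (CohB1.ProjSpace (n + 1) k) (Twist.twistProjSpace (n + 1) k (-((t + 1 : ℕ) : ℤ))) 0)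
  | 0 => by simpa using subsingleton_H0_twist_neg_one n
  | t + 1 => by
    obtain ⟨j, hjc, ι, w, hS, -, -⟩ := exists_hyperplane n k
    haveI : Mono ι := hS.mono_f
    have hS' := ft_shortExact hS (-((t + 1 : ℕ) : ℤ))
    haveI : Mono ((ftFun (n := n + 1) (k := k) (-((t + 1 : ℕ) : ℤ))).map ι) := hS'.mono_f
    obtain ⟨g₀⟩ := nonempty_twist_add (n := n + 1) (k := k)
      (a := -1) (b := -((t + 1 : ℕ) : ℤ)) (c := -((t + 1 + 1 : ℕ) : ℤ)) (by push_cast; ring)
    obtain ⟨g₁⟩ := nonempty_Ft_structure (n := n + 1) (k := k) (-((t + 1 : ℕ) : ℤ))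
    haveI : Subsingleton (Coh.HH (CohB1.ProjSpace (n + 1) k)
        ((ftFun (-((t + 1 : ℕ) : ℤ))).obj (Coh.structureModule (CohB1.ProjSpace (n + 1) k))) 0) :=
      subsingleton_of_iso g₁.symm (subsingleton_H0_twist_neg n t)
    have h : Subsingleton (Coh.HH (CohB1.ProjSpace (n + 1) k)
        ((ftFun (-((t + 1 : ℕ) : ℤ))).obj (Twist.twistProjSpace (n + 1) k (-1))) 0) :=
      (NegTwist.injective_hhMap_zero k ((ftFun (n := n + 1) (k := k) (-((t + 1 : ℕ) : ℤ))).map ι)).subsingleton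
    exact subsingleton_of_iso g₀ h

/-- A globally generated negative twist of an ideal sheaf is zero. -/
theorem isZero_of_neg (n : ℕ) (I : (CohB1.ProjSpace (n + 1) k).IdealSheafData) (d : ℤ) (hd0 : d < 0)
    (hd : Curv2.IsGloballyGenerated (Ft (ClSub.idealMod I) d)) : I = ⊥ := by
  haveI : Mono (ClSub.idealModι I) := by unfold ClSub.idealModι; infer_instance
  have hS : (ShortComplex.mk (ClSub.idealModι I) (cokernel.π _) (cokernel.condition _)).ShortExact :=
    { exact := ShortComplex.exact_of_g_is_cokernel _ (cokernelIsCokernel _) }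
  haveI : Mono ((ftFun (n := n + 1) (k := k) d).map (ClSub.idealModι I)) := (ft_shortExact hS d).mono_f
  obtain ⟨t, rfl⟩ : ∃ t : ℕ, d = -((t + 1 : ℕ) : ℤ) := ⟨(-d).toNat - 1, by omega⟩
  obtain ⟨g⟩ := nonempty_Ft_structure (n := n + 1) (k := k) (-((t + 1 : ℕ) : ℤ))
  haveI : Subsingleton (Coh.HH (CohB1.ProjSpace (n + 1) k)
      ((ftFun (-((t + 1 : ℕ) : ℤ))).obj (Coh.structureModule (CohB1.ProjSpace (n + 1) k))) 0) :=
    subsingleton_of_iso g.symm (subsingleton_H0_twist_neg (k := k) n t)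
  haveI hM : Subsingleton (Coh.HH (CohB1.ProjSpace (n + 1) k) (Ft (ClSub.idealMod I) (-((t + 1 : ℕ) : ℤ))) 0) :=
    (NegTwist.injective_hhMap_zero k
      ((ftFun (n := n + 1) (k := k) (-((t + 1 : ℕ) : ℤ))).map (ClSub.idealModι I))).subsingleton
  haveI : Subsingleton Γ(Ft (ClSub.idealMod I) (-((t + 1 : ℕ) : ℤ)), ⊤) :=
    (ProjCoh.H0top _).symm.toEquiv.subsingleton
  obtain ⟨σ, s, hs⟩ := CurveMult.spanned_of_isGloballyGenerated hd
  have hz : IsZero (Ft (ClSub.idealMod I) (-((t + 1 : ℕ) : ℤ))) := by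
    rw [IsZero.iff_id_eq_zero]
    refine Scheme.Modules.hom_ext _ _ fun O => ?_
    ext (m : Γ(Ft (ClSub.idealMod I) (-((t + 1 : ℕ) : ℤ)), O))
    show m = 0
    choose W hW hxW hspan using fun x : O => hs O m x.1 x.2
    refine Ample.meq_of_cover _ W hW (fun x hx => Opens.mem_iSup.mpr ⟨⟨x, hx⟩, hxW ⟨x, hx⟩⟩) fun x => ?_
    refine Eq.trans ?_ (map_zero _).symm
    refine Submodule.span_induction (p := fun z _ => z = 0) ?_ rfl (fun a b _ _ ha hb => by rw [ha, hb, add_zero])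
      (fun r a _ ha => by rw [ha, smul_zero]) (hspan x)
    rintro _ ⟨i, rfl⟩
    show mres _ _ (s i) = 0
    rw [Subsingleton.elim (s i) 0]
    exact map_zero _
  obtain ⟨g'⟩ := nonempty_Ft_Ft (ClSub.idealMod I) (-((t + 1 : ℕ) : ℤ)) ((t + 1 : ℕ) : ℤ) 0 (by ring)
  obtain ⟨g''⟩ : Nonempty (Ft (ClSub.idealMod I) 0 ≅ ClSub.idealMod I) :=
    ⟨Ample.LineData.tensorModMapIso (Iso.refl _) (nonempty_twist_zero (n := n + 1) (k := k)).some ≪≫
      Euler.tFUnitIso _⟩
  have hI : IsZero (ClSub.idealMod I) :=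
    (((ftFun (n := n + 1) (k := k) ((t + 1 : ℕ) : ℤ)).map_isZero hz).of_iso (g' ≪≫ g'').symm)
  refine Scheme.IdealSheafData.ext (funext fun U => le_bot_iff.1 fun r hr => ?_)
  obtain ⟨z, rfl⟩ := IdealModSec.exists_val_eq I U hr
  show IdealModSec.val I U.1 z ∈ (⊥ : Ideal _)
  rw [Ideal.mem_bot]
  have h0 : ClSub.idealModι I = 0 := hI.eq_of_src _ _
  show (ClSub.idealModι I).app U.1 z = 0
  rw [h0]
  rfl

/-- Regularity is vacuous for the zero ideal. -/
theorem isMRegular_bot_pow (p : ℕ) (hp : 1 ≤ p) (m : ℤ) :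
    Curv2.IsMRegular k n (ClSub.idealMod ((⊥ : (CohB1.ProjSpace n k).IdealSheafData) ^ p)) m := by
  intro i _ _
  haveI : Mono (ClSub.idealModι ((⊥ : (CohB1.ProjSpace n k).IdealSheafData) ^ p)) := by
    unfold ClSub.idealModι; infer_instance
  refine subsingleton_Ft_of_isZero ?_ _ i
  rw [IsZero.iff_id_eq_zero, ← cancel_mono (ClSub.idealModι _), Category.id_comp, zero_comp]
  refine Scheme.Modules.hom_ext _ _ fun W => ?_
  ext (z : Γ(ClSub.idealMod ((⊥ : (CohB1.ProjSpace n k).IdealSheafData) ^ p), W))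
  show IdealModSec.val _ W z = 0
  refine TopCat.Sheaf.eq_of_locally_eq' (CohB1.ProjSpace n k).sheaf
    (fun T : {T : (CohB1.ProjSpace n k).affineOpens // T.1 ≤ W} => T.1.1) W (fun T => homOfLE T.2)
    (fun x hx => by
      obtain ⟨T, hxT, hT⟩ := GrothLib.BlowUp.exists_affine_mem_le hx
      exact Opens.mem_iSup.mpr ⟨⟨T, hT⟩, hxT⟩) _ _ fun T => ?_
  refine Eq.trans ?_ (map_zero _).symm
  have h := IdealModSec.val_mem _ T.1 (mres _ T.2 z)
  rw [IdealModSec.val_mres, Scheme.IdealSheafData.ideal_pow, Pi.pow_apply, Scheme.IdealSheafData.ideal_bot,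
    Pi.bot_apply, ← Submodule.zero_eq_bot, zero_pow (by omega)] at h
  exact h

/-- **Linear bound for the regularity of powers.** -/
theorem exists_linear_bound (I : (CohB1.ProjSpace n k).IdealSheafData) (d : ℤ)
    (hd : Curv2.IsGloballyGenerated (Ft (ClSub.idealMod I) d)) :
    ∃ e : ℤ, ∀ p : ℕ, 1 ≤ p → ∀ m : ℤ, d * (p : ℤ) + e ≤ m →
      Curv2.IsMRegular k n (ClSub.idealMod (I ^ p)) m := by
  rcases Nat.eq_zero_or_pos n with rfl | hn
  · exact ⟨0, fun p _ m _ i hi hi' => by omega⟩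
  by_cases hd0 : d < 0
  · obtain ⟨n, rfl⟩ : ∃ n', n = n' + 1 := ⟨n - 1, by omega⟩
    rw [isZero_of_neg n I d hd0 hd]
    exact ⟨0, fun p hp m _ => isMRegular_bot_pow p hp m⟩
  lift d to ℕ using not_lt.1 hd0
  let c := cc n k
  obtain ⟨hcpt, hamp⟩ := ((cc n k).isAmple_iff (Ample.ProjMap.pcocIso n k)).mp
    (Ample.isAmple_twistProjSpace_one n k)
  have hI := isCoh_idealMod I
  haveI := hI.1
  obtain ⟨eT⟩ := nonempty_twist_iso (n := n) (k := k) d
  obtain ⟨eM⟩ := c.nonempty_tensor_modTwist (ClSub.idealMod I) d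
  have hgg : Curv2.IsGloballyGenerated (c.modTwist (ClSub.idealMod I) d) :=
    Ample.isGloballyGenerated_of_iso (Ample.LineData.tensorModMapIso (Iso.refl _) eT ≪≫ eM) hd
  haveI := c.isQuasicoherent_modTwist (M := ClSub.idealMod I) d
  obtain ⟨σ, s, hs⟩ := CurveMult.spanned_of_isGloballyGenerated hgg
  obtain ⟨r, a, ha, hgen⟩ := exists_families (X := CohB1.ProjSpace n k) c
    (fun x => c.finite_modTwist (M := ClSub.idealMod I) d
      (fun y => ⟨⊤, trivial, fun W hW _ => QCoh.moduleFinite_of_isFiniteType _ hI.2 hW⟩) x) s hs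
  have hG : ∀ p, Coh.IsCoh (G c I d p) := fun p => Euler.isCoh_modTwist c (isCoh_idealMod _) _
  obtain ⟨n₀, hn₀⟩ := UnifVanish7.exists_uniform_vanish (X := CohB1.ProjSpace n k) c k hamp r (G c I d) hG
    (fun j p => mulMap c (ha j) p) (fun i j p => mulMap_comm c (ha i) p (ha j)) 0
    (fun p _ => jointlyEpi_mulMap c a ha hgen p (hG (p + 1)).1)
  refine ⟨(n₀ : ℤ) + n, fun p hp m hm i hi hin => ?_⟩
  obtain ⟨l, hl⟩ : ∃ l : ℕ, m - i = ((d * p : ℕ) : ℤ) + l :=
    ⟨(m - i - ((d * p : ℕ) : ℤ)).toNat, by push_cast at hm ⊢; omega⟩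
  have hln : n₀ ≤ l := by push_cast at hm hl; omega
  obtain ⟨e1⟩ := c.nonempty_tensor_modTwist (G c I d p) l
  obtain ⟨e2⟩ := c.nonempty_tensor_modTwist (ClSub.idealMod (I ^ p)) (d * p)
  obtain ⟨t1⟩ := nonempty_twist_iso (n := n) (k := k) (d * p)
  obtain ⟨t2⟩ := nonempty_twist_iso (n := n) (k := k) l
  obtain ⟨g⟩ := nonempty_Ft_Ft (ClSub.idealMod (I ^ p)) ((d * p : ℕ) : ℤ) (l : ℤ) (m - i) hl.symm
  exact subsingleton_of_iso
    (e1.symm ≪≫ Ample.LineData.tensorModMapIso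
      (e2.symm ≪≫ Ample.LineData.tensorModMapIso (Iso.refl _) t1.symm) t2.symm ≪≫ g)
    (hn₀ l hln p i hi)

end GrothLib.RegPow
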