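import Groth.Agent.Lib.UnifVanish7.Main
import Groth.Agent.Lib.IdealModSec.Basic
import Groth.Agent.Lib.Ample.FiniteGen

/-!
# The graded system of twisted powers of an ideal sheaf
-/

universe u

set_option backward.isDefEq.respectTransparency false
set_option linter.all false

open AlgebraicGeometry CategoryTheory CategoryTheory.Limits TopologicalSpace Opposite
open GrothLib.InvExt (mres)
open GrothLib.Ample (Cocycle res res_res res_self)
open GrothLib.QCoh (appLinear)

noncomputable section

namespace GrothLib.RegPow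

variable {X : Scheme.{u}} (c : Cocycle X) {d e e' : ℕ}

/-- The components of a global family, restricted. -/
abbrev comp (a : c.sect d ⊤) (i : c.ι) {W : X.Opens} (hW : W ≤ c.D i) : Γ(X, W) :=
  res (le_inf le_top hW) (a.1 i)

/-- A section lying in the ideal on every affine open comes from the ideal module. -/
theorem exists_val (J : X.IdealSheafData) {W : X.Opens} (r : Γ(X, W))
    (h : ∀ (T : X.affineOpens) (hT : T.1 ≤ W), res hT r ∈ J.ideal T) :
    ∃ k, IdealModSec.val J W k = r := by
  refine (IdealModSec.app_kernel (ClSub.toSubscheme J) W).2 r ?_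
  refine Ample.meq_of_cover ((Scheme.Modules.pushforward J.subschemeι).obj (Coh.structureModule J.subscheme))
    (fun T : {T : X.affineOpens // T.1 ≤ W} => T.1.1) (fun T => T.2) (fun x hx => by
      obtain ⟨T, hxT, hT⟩ := GrothLib.BlowUp.exists_affine_mem_le hx
      exact Opens.mem_iSup.mpr ⟨⟨T, hT⟩, hxT⟩) fun T => ?_
  refine Eq.trans ?_ (map_zero _).symm
  rw [← Ample.app_mres]
  have h1 := h T.1 T.2
  rw [← J.ker_subschemeι_app T.1] at h1
  exact h1

variable (I : X.IdealSheafData)

/-- The family has all components in the ideal. -/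
def InIdeal (a : c.sect d ⊤) : Prop :=
  ∀ (i : c.ι) (T : X.affineOpens) (hT : T.1 ≤ c.D i), comp c a i hT ∈ I.ideal T

/-- The twisted power. -/
abbrev G (d p : ℕ) : X.Modules := c.modTwist (ClSub.idealMod (I ^ p)) (d * p)

variable {I}

theorem exists_val_mul {a : c.sect d ⊤} (ha : InIdeal c I a) (p : ℕ) (i : c.ι) {W : X.Opens} (hW : W ≤ c.D i)
    (k : Γ(ClSub.idealMod (I ^ p), W)) :
    ∃ k', IdealModSec.val (I ^ (p + 1)) W k' = comp c a i hW * IdealModSec.val (I ^ p) W k := by
  refine exists_val _ _ fun T hT => ?_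
  rw [map_mul, res_res, Scheme.IdealSheafData.ideal_pow, Pi.pow_apply, pow_succ']
  refine Ideal.mul_mem_mul (ha i T (hT.trans hW)) ?_
  have h := IdealModSec.val_mem (I ^ p) T (mres _ hT k)
  rw [IdealModSec.val_mres, Scheme.IdealSheafData.ideal_pow, Pi.pow_apply] at h
  exact h

variable {a : c.sect d ⊤} (ha : InIdeal c I a) (p : ℕ)

/-- The product of a component by a section of a power. -/
def mulVal (i : c.ι) {W : X.Opens} (hW : W ≤ c.D i) (k : Γ(ClSub.idealMod (I ^ p), W)) :
    Γ(ClSub.idealMod (I ^ (p + 1)), W) :=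
  (exists_val_mul c ha p i hW k).choose

theorem val_mulVal (i : c.ι) {W : X.Opens} (hW : W ≤ c.D i) (k : Γ(ClSub.idealMod (I ^ p), W)) :
    IdealModSec.val (I ^ (p + 1)) W (mulVal c ha p i hW k) = comp c a i hW * IdealModSec.val (I ^ p) W k :=
  (exists_val_mul c ha p i hW k).choose_spec

theorem val_add (J : X.IdealSheafData) (W : X.Opens) (k k' : Γ(ClSub.idealMod J, W)) :
    IdealModSec.val J W (k + k') = IdealModSec.val J W k + IdealModSec.val J W k' :=
  map_add ((ClSub.idealModι J).app W).hom k k'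

/-- Multiplication on families of sections of powers. -/
def mulSect {V : X.Opens} (b : c.msect (ClSub.idealMod (I ^ p)) (d * p) V) :
    c.msect (ClSub.idealMod (I ^ (p + 1))) (d * (p + 1)) V :=
  ⟨fun i => mulVal c ha p i inf_le_right (b.1 i), fun i j W hi hj => by
    apply IdealModSec.val_injective
    have h := congrArg (IdealModSec.val (I ^ p) W) (c.msect_spec b i j hi hj)
    rw [IdealModSec.val_smul, IdealModSec.val_mres, IdealModSec.val_mres] at h
    rw [IdealModSec.val_smul, IdealModSec.val_mres, IdealModSec.val_mres, val_mulVal, val_mulVal]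
    show res hi (_ * _) = _ * res hj (_ * _)
    change res hi (IdealModSec.val _ _ _) = _ * res hj (IdealModSec.val _ _ _) at h
    rw [map_mul, map_mul, res_res, res_res, h, c.sect_spec a i j (le_inf le_top (hi.trans inf_le_right))
      (le_inf le_top (hj.trans inf_le_right)), Nat.mul_succ, pow_add]
    ring⟩

theorem mulSect_apply {V : X.Opens} (b : c.msect (ClSub.idealMod (I ^ p)) (d * p) V) (i : c.ι) :
    (mulSect c ha p b).1 i = mulVal c ha p i inf_le_right (b.1 i) := rfl

/-- The map `I^p(dp) → I^{p+1}(d(p+1))`. -/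
def mulMap : G c I d p ⟶ G c I d (p + 1) :=
  ⟨{
    app := fun V => ModuleCat.ofHom
      (X := ((G c I d p).val.obj V : Type u))
      (Y := ((G c I d (p + 1)).val.obj V : Type u))
      { toFun := fun (b : c.msect _ (d * p) V.unop) => mulSect c ha p b
        map_add' := fun (b b' : c.msect _ (d * p) V.unop) => c.msect_ext fun i => IdealModSec.val_injective _ _ (by
          show IdealModSec.val _ _ (mulVal c ha p i inf_le_right (b.1 i + b'.1 i)) =
            IdealModSec.val _ _ (mulVal c ha p i inf_le_right (b.1 i) + mulVal c ha p i inf_le_right (b'.1 i))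
          rw [val_add, val_mulVal, val_mulVal, val_mulVal, val_add, mul_add])
        map_smul' := fun (r : Γ(X, V.unop)) (b : c.msect _ (d * p) V.unop) => c.msect_ext fun i =>
          IdealModSec.val_injective _ _ (by
            show IdealModSec.val _ _ (mulVal c ha p i inf_le_right
                (res (inf_le_left : V.unop ⊓ c.D i ≤ V.unop) r • b.1 i)) =
              IdealModSec.val _ _ (res (inf_le_left : V.unop ⊓ c.D i ≤ V.unop) r •
                mulVal c ha p i inf_le_right (b.1 i))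
            rw [val_mulVal, IdealModSec.val_smul, IdealModSec.val_smul, val_mulVal]
            ring) }
    naturality := fun {V W} f => by
      ext (b : c.msect _ (d * p) V.unop)
      refine c.msect_ext fun i => IdealModSec.val_injective _ _ ?_
      show IdealModSec.val _ _ (mulVal c ha p i inf_le_right (mres _ (inf_le_inf_right _ (leOfHom f.unop)) (b.1 i))) =
        IdealModSec.val _ _ (mres _ (inf_le_inf_right _ (leOfHom f.unop)) (mulVal c ha p i inf_le_right (b.1 i)))
      rw [val_mulVal, IdealModSec.val_mres, IdealModSec.val_mres, val_mulVal]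
      show _ = res _ (_ * _)
      rw [map_mul, res_res] }⟩

theorem mulMap_app {V : X.Opens} (b : c.msect (ClSub.idealMod (I ^ p)) (d * p) V) :
    (mulMap c ha p).app V b = mulSect c ha p b := rfl

theorem mulMap_comm {a' : c.sect d ⊤} (ha' : InIdeal c I a') :
    mulMap c ha p ≫ mulMap c ha' (p + 1) = mulMap c ha' p ≫ mulMap c ha (p + 1) := by
  refine Scheme.Modules.hom_ext _ _ fun U => ?_
  ext (b : c.msect _ (d * p) U)
  refine c.msect_ext fun i => IdealModSec.val_injective _ _ ?_
  show IdealModSec.val _ _ (mulVal c ha' (p + 1) i inf_le_right (mulVal c ha p i inf_le_right (b.1 i))) =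
    IdealModSec.val _ _ (mulVal c ha (p + 1) i inf_le_right (mulVal c ha' p i inf_le_right (b.1 i)))
  rw [val_mulVal, val_mulVal, val_mulVal, val_mulVal]
  ring

omit ha

variable [IsLocallyNoetherian X]

/-- Families generating the ideal near every point give jointly epimorphic maps. -/
theorem jointlyEpi_mulMap {r : ℕ} (a : Fin r → c.sect d ⊤) (ha : ∀ j, InIdeal c I (a j))
    (hgen : ∀ y : X, ∃ (U : X.affineOpens) (i : c.ι) (hU : U.1 ≤ c.D i), y ∈ U.1 ∧
      I.ideal U ≤ Ideal.span (Set.range fun j => comp c (a j) i hU)) (p : ℕ)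
    (hG : (G c I d (p + 1)).IsQuasicoherent) :
    UnifVanish7.JointlyEpi fun j => mulMap c (ha j) p := by
  refine UnifVanish7.jointlyEpi_of_sections _ fun y => ?_
  obtain ⟨U, i, hU, hy, hspan⟩ := hgen y
  refine ⟨U, hy, ?_⟩
  let S : Submodule Γ(X, U.1) Γ(G c I d (p + 1), U.1) :=
    ⨆ j, LinearMap.range (appLinear (mulMap c (ha j) p) U.1)
  let E : Γ(ClSub.idealMod (I ^ (p + 1)), U.1) → Γ(G c I d (p + 1), U.1) :=
    fun k => c.mbase (d * (p + 1)) i hU k
  have hmul : ∀ x ∈ I.ideal U, ∀ z ∈ (I ^ p).ideal U, ∃ k, IdealModSec.val (I ^ (p + 1)) U.1 k = x * z ∧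
      E k ∈ S := by
    intro x hx z hz
    obtain ⟨kz, rfl⟩ := IdealModSec.exists_val_eq _ U hz
    have hx' := hspan hx
    rw [Submodule.mem_span_range_iff_exists_fun] at hx'
    obtain ⟨w, rfl⟩ := hx'
    let k : Γ(ClSub.idealMod (I ^ (p + 1)), U.1) := ∑ j, w j • mulVal c (ha j) p i hU kz
    refine ⟨k, ?_, ?_⟩
    · show (ClSub.idealModι (I ^ (p + 1))).app U.1 (∑ j, w j • mulVal c (ha j) p i hU kz) = _
      rw [map_sum, Finset.sum_mul]
      refine Finset.sum_congr rfl fun j _ => ?_
      show IdealModSec.val _ _ (_ • _) = _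
      rw [IdealModSec.val_smul, val_mulVal, smul_eq_mul, mul_assoc]
    · have hsum : E k = ∑ j, w j • E (mulVal c (ha j) p i hU kz) := by
        show c.mbaseEquiv (ClSub.idealMod (I ^ (p + 1))) (d * (p + 1)) i hU k = _
        rw [map_sum]
        refine Finset.sum_congr rfl fun j _ => ?_
        rw [map_smul]
        rfl
      rw [hsum]
      refine Submodule.sum_mem _ fun j _ => Submodule.smul_mem _ _ (Submodule.mem_iSup_of_mem j
        ⟨show Γ(G c I d p, U.1) from c.mbase (d * p) i hU kz, ?_⟩)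
      show mulSect c (ha j) p (c.mbase (d * p) i hU kz) = c.mbase (d * (p + 1)) i hU _
      refine c.msect_ext_of_le hU (IdealModSec.val_injective _ _ ?_)
      rw [mulSect_apply, c.mbase_self, c.mbase_self, val_mulVal, IdealModSec.val_mres, IdealModSec.val_mres,
        val_mulVal]
      show _ = res _ (_ * _)
      rw [map_mul, res_res]
  refine eq_top_iff.2 fun z _ => ?_
  show z ∈ S
  let k : Γ(ClSub.idealMod (I ^ (p + 1)), U.1) :=
    (c.mbaseEquiv (ClSub.idealMod (I ^ (p + 1))) (d * (p + 1)) i hU).symm z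
  have hz : z = E k := ((c.mbaseEquiv _ (d * (p + 1)) i hU).apply_symm_apply z).symm
  rw [hz]
  have hk : IdealModSec.val (I ^ (p + 1)) U.1 k ∈ I.ideal U * (I ^ p).ideal U := by
    have h := IdealModSec.val_mem (I ^ (p + 1)) U k
    rw [Scheme.IdealSheafData.ideal_pow, Pi.pow_apply, pow_succ'] at h
    rw [Scheme.IdealSheafData.ideal_pow, Pi.pow_apply]
    exact h
  suffices ∀ x ∈ I.ideal U * (I ^ p).ideal U, ∃ k', IdealModSec.val (I ^ (p + 1)) U.1 k' = x ∧ E k' ∈ S by
    obtain ⟨k', hk', hS⟩ := this _ hk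
    rwa [IdealModSec.val_injective _ _ hk'] at hS
  intro x hx
  refine Submodule.mul_induction_on hx hmul fun x y ⟨kx, hkx, hSx⟩ ⟨ky, hky, hSy⟩ => ⟨kx + ky, ?_, ?_⟩
  · rw [val_add, hkx, hky]
  · rw [show E (kx + ky) = E kx + E ky from map_add (c.mbaseEquiv _ (d * (p + 1)) i hU) kx ky]
    exact Submodule.add_mem _ hSx hSy

/-- A spanned twist of an ideal sheaf provides generating families. -/
theorem exists_families [CompactSpace X] [(c.modTwist (ClSub.idealMod I) d).IsQuasicoherent]
    (hfin : ∀ p : X, ∃ O : X.Opens, p ∈ O ∧ ∀ W : X.Opens, IsAffineOpen W → W ≤ O →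
      Module.Finite Γ(X, W) Γ(c.modTwist (ClSub.idealMod I) d, W))
    {ι : Type*} (s : ι → Γ(c.modTwist (ClSub.idealMod I) d, ⊤))
    (hs : Ample.Spanned (c.modTwist (ClSub.idealMod I) d) s) :
    ∃ (r : ℕ) (a : Fin r → c.sect d ⊤), (∀ j, InIdeal c I (a j)) ∧
      ∀ y : X, ∃ (U : X.affineOpens) (i : c.ι) (hU : U.1 ≤ c.D i), y ∈ U.1 ∧
        I.ideal U ≤ Ideal.span (Set.range fun j => comp c (a j) i hU) := by
  classical
  obtain ⟨r, t, ht⟩ := Ample.exists_finite_spanned _ hfin s hs
  let b : Fin r → c.msect (ClSub.idealMod I) d ⊤ := fun j => s (t j)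
  let a : Fin r → c.sect d ⊤ := fun j => ⟨fun i => IdealModSec.val I _ ((b j).1 i), fun i l W hi hl => by
    have h := congrArg (IdealModSec.val I W) (c.msect_spec (b j) i l hi hl)
    rw [IdealModSec.val_smul, IdealModSec.val_mres, IdealModSec.val_mres] at h
    exact h⟩
  refine ⟨r, a, fun j i T hT => ?_, fun y => ?_⟩
  · have h := IdealModSec.val_mem I T (mres _ (le_inf le_top hT) ((b j).1 i))
    rw [IdealModSec.val_mres] at h
    exact h
  obtain ⟨i, hi⟩ := c.exists_mem y
  obtain ⟨U₀, hyU₀, hU₀⟩ := GrothLib.BlowUp.exists_affine_mem_le hi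
  haveI : IsNoetherianRing Γ(X, U₀.1) := IsLocallyNoetherian.component_noetherian U₀
  obtain ⟨m, g, hg⟩ := Submodule.fg_iff_exists_fin_generating_family.1 (IsNoetherian.noetherian (I.ideal U₀))
  choose kg hkg using fun l => IdealModSec.exists_val_eq I U₀ (a := g l) (hg.le (Submodule.subset_span ⟨l, rfl⟩))
  choose W hW hyW hspan using fun l =>
    ht U₀.1 (show Γ(c.modTwist (ClSub.idealMod I) d, U₀.1) from c.mbase d i hU₀ (kg l)) y hyU₀
  let W₀ : X.Opens := ⟨(U₀.1 : Set X) ∩ ⋂ l, (W l : Set X), U₀.1.2.inter (isOpen_iInter_of_finite fun l => (W l).2)⟩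
  obtain ⟨U, hyU, hUW⟩ := GrothLib.BlowUp.exists_affine_mem_le
    (show y ∈ W₀ from ⟨hyU₀, Set.mem_iInter.2 fun l => hyW l⟩)
  have hUU₀ : U.1 ≤ U₀.1 := fun x hx => (hUW hx).1
  have hUl : ∀ l, U.1 ≤ W l := fun l x hx => Set.mem_iInter.1 (hUW hx).2 l
  refine ⟨U, i, hUU₀.trans hU₀, hyU, ?_⟩
  rw [← I.map_ideal (U := U) (V := U₀) hUU₀, ← hg]
  rw [Ideal.map_span, Ideal.span_le]
  rintro _ ⟨_, ⟨l, rfl⟩, rfl⟩
  rw [← hkg l]
  let ev : Γ(c.modTwist (ClSub.idealMod I) d, U.1) →ₗ[Γ(X, U.1)] Γ(X, U.1) :=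
    { toFun := fun (z : c.msect (ClSub.idealMod I) d U.1) =>
        IdealModSec.val I U.1 (mres _ (le_inf le_rfl (hUU₀.trans hU₀)) (z.1 i))
      map_add' := fun (z z' : c.msect (ClSub.idealMod I) d U.1) => by
        show IdealModSec.val I U.1 (mres _ _ (z.1 i + z'.1 i)) = _
        rw [show mres (ClSub.idealMod I) (le_inf le_rfl (hUU₀.trans hU₀)) (z.1 i + z'.1 i) = _ from map_add _ _ _,
          val_add]
      map_smul' := fun (q : Γ(X, U.1)) (z : c.msect (ClSub.idealMod I) d U.1) => by
        show IdealModSec.val I U.1 (mres _ _ (res (inf_le_left : U.1 ⊓ c.D i ≤ U.1) q • z.1 i)) = q * _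
        rw [Ample.mres_smul', res_res, res_self, IdealModSec.val_smul] }
  have h := Submodule.mem_map_of_mem (f := ev) (Ample.mres_mem_span_range (hUl l) (hspan l))
  rw [Submodule.map_span, InvExt.mres_mres] at h
  have e1 : ev (mres (c.modTwist (ClSub.idealMod I) d) ((hUl l).trans (hW l))
      (show Γ(c.modTwist (ClSub.idealMod I) d, U₀.1) from c.mbase d i hU₀ (kg l))) =
        res hUU₀ (IdealModSec.val I U₀.1 (kg l)) := by
    show IdealModSec.val I U.1 (mres _ _ (mres _ _ ((c.mbase d i hU₀ (kg l)).1 i))) = _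
    rw [c.mbase_self, InvExt.mres_mres, InvExt.mres_mres, IdealModSec.val_mres]
  rw [e1] at h
  refine Submodule.span_mono ?_ h
  rintro _ ⟨_, ⟨j, rfl⟩, rfl⟩
  refine ⟨j, ?_⟩
  show res _ (IdealModSec.val I _ ((b j).1 i)) = IdealModSec.val I U.1 (mres _ _ (mres _ _ ((b j).1 i)))
  rw [InvExt.mres_mres, IdealModSec.val_mres]

end GrothLib.RegPow
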